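import Mathlib.RepresentationTheory.Basic
import Mathlib.RingTheory.Artinian.Module
import Mathlib.LinearAlgebra.Trace
import Mathlib.LinearAlgebra.FreeModule.Norm
import Groth.Agent.Books.BurnsideTrace

/-!
# Kolchin's theorem

A group of unipotent operators on a non-zero finite-dimensional space over an algebraically closed
field has a non-zero fixed vector.
-/

set_option autoImplicit false

universe u v w

namespace Groth.Agent.Sga3B.RadOpen

lemma trace_of_isNilpotent {K : Type v} [Field K] {W : Type w} [AddCommGroup W] [Module K W]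
    [FiniteDimensional K W] (a : Module.End K W) (h : IsNilpotent (a - 1)) :
    LinearMap.trace K W a = (Module.finrank K W : K) := by
  have h2 := (LinearMap.isNilpotent_trace_of_isNilpotent h).eq_zero
  rwa [map_sub, LinearMap.trace_one, sub_eq_zero] at h2

theorem exists_fixed_aux {K : Type v} [Field K] [IsAlgClosed K] {U : Type u} [Group U]
    {W : Type w} [AddCommGroup W] [Module K W] [Module (MonoidAlgebra K U) W]
    [IsScalarTower K (MonoidAlgebra K U) W] [FiniteDimensional K W] [Nontrivial W]
    (h : ∀ u, IsNilpotent (Algebra.lsmul K K W (MonoidAlgebra.of K U u) - 1)) :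
    ∃ w : W, w ≠ 0 ∧ ∀ u : U, MonoidAlgebra.of K U u • w = w := by
  classical
  have hart : IsArtinian (MonoidAlgebra K U) W := isArtinian_of_tower K inferInstance
  obtain ⟨N, hN⟩ := IsAtomic.exists_atom (Submodule (MonoidAlgebra K U) W)
  have hs : IsSimpleModule (MonoidAlgebra K U) N := isSimpleModule_iff_isAtom.mpr hN
  have hfN : FiniteDimensional K N :=
    Module.Finite.of_injective (N.subtype.restrictScalars K) N.injective_subtype
  have htr : ∀ u : U, LinearMap.trace K N
      (Algebra.lsmul K K N (MonoidAlgebra.of K U u)) = (Module.finrank K N : K) := by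
    intro u
    have h1 : IsNilpotent (Algebra.lsmul K K N (MonoidAlgebra.of K U u) - 1) := by
      obtain ⟨n, hn⟩ := h u
      refine ⟨n, ?_⟩
      have key : ∀ (m : ℕ) (x : N), (((Algebra.lsmul K K N (MonoidAlgebra.of K U u) - 1) ^ m) x : N).1
          = ((Algebra.lsmul K K W (MonoidAlgebra.of K U u) - 1) ^ m) x.1 := by
        intro m
        induction m with
        | zero => intro x; simp
        | succ m ih =>
          intro x
          rw [pow_succ, pow_succ, Module.End.mul_apply, Module.End.mul_apply, ih]
          congr 1
      ext x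
      rw [key n x, hn]
      rfl
    exact trace_of_isNilpotent _ h1
  obtain ⟨x, hx⟩ : ∃ x : N, x ≠ 0 := by
    have := hs.nontrivial
    exact exists_ne 0
  refine ⟨x.1, fun hx0 => hx (Subtype.ext hx0), fun u => ?_⟩
  have := Groth.Agent.Books.BurnsideTrace.smul_eq_of_trace_eq (k := K) (G := U) (U := N) _ htr u x
  exact congrArg Subtype.val this

/-- Kolchin's theorem. -/
theorem exists_fixed_of_unipotent {K : Type v} [Field K] [IsAlgClosed K] {U : Type u} [Group U]
    {W : Type w} [AddCommGroup W] [Module K W] [FiniteDimensional K W] [Nontrivial W]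
    (σ : Representation K U W) (h : ∀ u, IsNilpotent (σ u - 1)) :
    ∃ w : W, w ≠ 0 ∧ ∀ u, σ u w = w := by
  let : Module (MonoidAlgebra K U) W := Module.compHom W (Representation.asAlgebraHom σ).toRingHom
  have hsm : ∀ (a : MonoidAlgebra K U) (x : W), a • x = Representation.asAlgebraHom σ a x :=
    fun _ _ => rfl
  have : IsScalarTower K (MonoidAlgebra K U) W := ⟨fun r a x => by
    rw [hsm, hsm, map_smul]
    rfl⟩
  obtain ⟨w, hw, hw'⟩ := exists_fixed_aux (K := K) (U := U) (W := W) (fun u => by
    have : Algebra.lsmul K K W (MonoidAlgebra.of K U u) = σ u := by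
      ext x
      change MonoidAlgebra.of K U u • x = _
      rw [hsm, Representation.asAlgebraHom_of]
    rw [this]
    exact h u)
  refine ⟨w, hw, fun u => ?_⟩
  have := hw' u
  rwa [hsm, Representation.asAlgebraHom_of] at this

end Groth.Agent.Sga3B.RadOpen
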