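import Mathlib.RepresentationTheory.Basic
import Mathlib.RingTheory.Jacobson.Semiprimary
import Mathlib.RingTheory.Artinian.Module
import Mathlib.LinearAlgebra.Trace
import Groth.Agent.Sga3B.RadOpen.Kolchin

/-!
# Normal unipotent elements of a linear group, by alternating products

`Γ` is a group with a finite-dimensional representation `ρ` on `V`.  For `g : Γ` and a list of
elements `ys` we consider the operators `(g - 1) y_n (g - 1) ⋯ (g - 1) y_1`.  The elements `g` for
which all these operators (for lists of length `n ≥ dim V`) vanish form the largest normal subgroup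
acting by unipotent operators.
-/

set_option autoImplicit false

universe u v w

namespace Groth.Agent.Sga3B.RadOpen

section Chain

variable {K : Type v} [Field K] {V : Type w} [AddCommGroup V] [Module K V]

lemma chain_eq_top [FiniteDimensional K V] (L : ℕ → Submodule K V) (hmono : ∀ k, L k ≤ L (k + 1))
    (hs : ∀ k, L k = L (k + 1) → L k = ⊤) (n : ℕ) (hn : Module.finrank K V ≤ n) : L n = ⊤ := by
  have key : ∀ k, L k = ⊤ ∨ k ≤ Module.finrank K (L k) := by
    intro k
    induction k with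
    | zero => exact Or.inr (Nat.zero_le _)
    | succ k ih =>
      by_cases h : L k = L (k + 1)
      · left
        rw [← h]
        exact hs k h
      · rcases ih with h1 | h1
        · left
          exact top_le_iff.mp (h1 ▸ hmono k)
        · right
          exact lt_of_le_of_lt h1 (Submodule.finrank_lt_finrank_of_lt (lt_of_le_of_ne (hmono k) h))
  rcases key n with h | h
  · exact h
  · exact Submodule.eq_top_of_finrank_eq (le_antisymm (Submodule.finrank_le _) (hn.trans h))

end Chain

section Abs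

variable {Γ : Type u} [Group Γ] {K : Type v} [Field K] {V : Type w} [AddCommGroup V] [Module K V]
  (ρ : Representation K Γ V)

/-- Iterated operator `(g - 1) y_n (g - 1) ⋯ (g - 1) y_1`. -/
def altR (g : Γ) : List Γ → Module.End K V
  | [] => 1
  | y :: ys => altR g ys * ((ρ g - 1) * ρ y)

@[simp] lemma altR_nil (g : Γ) : altR ρ g [] = 1 := rfl
@[simp] lemma altR_cons (g y : Γ) (ys : List Γ) :
    altR ρ g (y :: ys) = altR ρ g ys * ((ρ g - 1) * ρ y) := rfl

/-- Elements all of whose alternating products of length `n` vanish. -/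
def NN (n : ℕ) : Set Γ := {g | ∀ ys : List Γ, ys.length = n → altR ρ g ys = 0}

/-- A chain of stable subspaces through which `g` acts trivially kills the alternating products. -/
lemma altR_apply_eq_zero_of_chain (L : ℕ → Submodule K V) (h0 : L 0 = ⊥) (g : Γ)
    (hst : ∀ k y, ∀ v ∈ L k, ρ y v ∈ L k) (hg : ∀ k, ∀ v ∈ L (k + 1), ρ g v - v ∈ L k)
    (ys : List Γ) (v : V) (hv : v ∈ L ys.length) : altR ρ g ys v = 0 := by
  induction ys generalizing v with
  | nil => simpa [h0] using hv
  | cons y ys ih =>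
    rw [altR_cons, Module.End.mul_apply, Module.End.mul_apply]
    apply ih
    exact hg _ _ (hst _ y v hv)

/-- The kernel filtration of `g`. -/
def Kf (g : Γ) (k : ℕ) : Submodule K V :=
  ⨅ ys : {ys : List Γ // ys.length = k}, LinearMap.ker (altR ρ g ys.1)

lemma mem_Kf {g : Γ} {k : ℕ} {v : V} :
    v ∈ Kf ρ g k ↔ ∀ ys : List Γ, ys.length = k → altR ρ g ys v = 0 := by
  simp [Kf, Submodule.mem_iInf]

lemma Kf_stable (g : Γ) (k : ℕ) (y : Γ) (v : V) (hv : v ∈ Kf ρ g k) : ρ y v ∈ Kf ρ g k := by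
  rw [mem_Kf] at hv ⊢
  intro ys hys
  cases ys with
  | nil =>
    have h0 := hv [] hys
    rw [altR_nil, Module.End.one_apply] at h0
    rw [h0, map_zero, map_zero]
  | cons z ys =>
    have := hv ((z * y) :: ys) hys
    rw [altR_cons] at this ⊢
    rw [map_mul] at this
    exact this

lemma Kf_sub (g : Γ) (k : ℕ) (v : V) (hv : v ∈ Kf ρ g (k + 1)) : ρ g v - v ∈ Kf ρ g k := by
  rw [mem_Kf] at hv ⊢
  intro ys hys
  have := hv (1 :: ys) (by simp [hys])
  simpa using this

/-- The algebra of operators generated by the group. -/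
abbrev opAlg : Subalgebra K (Module.End K V) := Algebra.adjoin K (Set.range ρ)

/-- A group element as an element of the algebra. -/
def opOf (g : Γ) : opAlg ρ := ⟨ρ g, Algebra.subset_adjoin ⟨g, rfl⟩⟩

lemma opOf_mul (g h : Γ) : opOf ρ (g * h) = opOf ρ g * opOf ρ h :=
  Subtype.ext (map_mul ρ g h)

lemma opOf_one : opOf ρ 1 = 1 := Subtype.ext (map_one ρ)

/-- Submodules stable under the group are stable under the algebra. -/
lemma opAlg_stable (W : Submodule K V) (hW : ∀ y, ∀ v ∈ W, ρ y v ∈ W) (r : opAlg ρ) (v : V)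
    (hv : v ∈ W) : r.1 v ∈ W := by
  obtain ⟨r, hr⟩ := r
  induction hr using Algebra.adjoin_induction generalizing v with
  | mem x hx => obtain ⟨y, rfl⟩ := hx; exact hW y v hv
  | algebraMap c => exact W.smul_mem c hv
  | add x y _ _ hx hy => exact W.add_mem (hx v hv) (hy v hv)
  | mul x y _ _ hx hy => exact hx _ (hy v hv)

lemma mem_jacobson_of {R : Type*} [Ring R] (x : R) (hx : ∀ r : R, IsNilpotent (r * x)) :
    x ∈ Ring.jacobson R := by
  rw [← Ideal.jacobson_bot, Ideal.mem_jacobson_iff]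
  intro y
  obtain ⟨z, hz⟩ := (hx y).isUnit_one_add.exists_left_inv
  refine ⟨z, ?_⟩
  rw [Ideal.mem_bot, _root_.mul_assoc, sub_eq_zero, ← hz, _root_.mul_add, _root_.mul_one, add_comm]

lemma isNilpotent_mul_comm' {R : Type*} [Ring R] {x y : R} (h : IsNilpotent (x * y)) :
    IsNilpotent (y * x) := by
  obtain ⟨n, hn⟩ := h
  refine ⟨n + 1, ?_⟩
  have key : ∀ m : ℕ, (y * x) ^ (m + 1) = y * (x * y) ^ m * x := by
    intro m
    induction m with
    | zero => simp
    | succ m ih => rw [pow_succ, ih, pow_succ (x * y) m]; simp only [_root_.mul_assoc]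
  rw [key, hn, mul_zero, zero_mul]

variable [FiniteDimensional K V]

omit [FiniteDimensional K V] in
lemma opOf_sub_one_mem_jacobson {n : ℕ} {g : Γ} (h : g ∈ NN ρ n) :
    opOf ρ g - 1 ∈ Ring.jacobson (opAlg ρ) := by
  apply mem_jacobson_of
  intro r
  apply isNilpotent_mul_comm'
  refine ⟨n, Subtype.ext (LinearMap.ext fun v => ?_)⟩
  have key : ∀ k, ∀ v ∈ Kf ρ g k, ((((opOf ρ g - 1) * r) ^ k : opAlg ρ).1) v = 0 := by
    intro k
    induction k with
    | zero =>
      intro v hv
      rw [mem_Kf] at hv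
      simpa using hv [] rfl
    | succ k ih =>
      intro v hv
      rw [pow_succ]
      change (((opOf ρ g - 1) * r) ^ k : opAlg ρ).1 ((ρ g - 1) (r.1 v)) = 0
      apply ih
      exact Kf_sub ρ g k _ (opAlg_stable ρ _ (Kf_stable ρ g _) r v hv)
  exact key n v ((mem_Kf ρ).mpr fun ys hys => by rw [h ys hys]; rfl)

/-- Annihilator chain of a two-sided ideal. -/
def annChain (J : Ideal (opAlg ρ)) : ℕ → Submodule K V
  | 0 => ⊥
  | k + 1 => ⨅ j : J, (annChain J k).comap j.1.1

omit [FiniteDimensional K V] in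
lemma mem_annChain_succ {J : Ideal (opAlg ρ)} {k : ℕ} {v : V} :
    v ∈ annChain ρ J (k + 1) ↔ ∀ j ∈ J, j.1 v ∈ annChain ρ J k := by
  simp [annChain, Submodule.mem_iInf]

omit [FiniteDimensional K V] in
lemma annChain_stable (J : Ideal (opAlg ρ)) [J.IsTwoSided] (k : ℕ) (r : opAlg ρ) (v : V)
    (hv : v ∈ annChain ρ J k) : r.1 v ∈ annChain ρ J k := by
  cases k with
  | zero =>
    have : v = 0 := by simpa [annChain] using hv
    rw [this, map_zero]
    exact zero_mem _
  | succ k =>
    rw [mem_annChain_succ] at hv ⊢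
    intro j hj
    exact hv (j * r) (J.mul_mem_right r hj)

omit [FiniteDimensional K V] in
lemma annChain_mono (J : Ideal (opAlg ρ)) [J.IsTwoSided] (k : ℕ) :
    annChain ρ J k ≤ annChain ρ J (k + 1) := by
  intro v hv
  rw [mem_annChain_succ]
  intro j _
  exact annChain_stable ρ J k j v hv

omit [FiniteDimensional K V] in
lemma mem_annChain_of_pow (J : Ideal (opAlg ρ)) (k : ℕ) (v : V)
    (h : ∀ x ∈ J ^ k, x.1 v = 0) : v ∈ annChain ρ J k := by
  induction k generalizing v with
  | zero =>
    have h1 : (1 : opAlg ρ) ∈ J ^ 0 := by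
      rw [Submodule.pow_zero, Ideal.one_eq_top]
      exact Submodule.mem_top
    exact (Submodule.mem_bot K).mpr (h 1 h1)
  | succ k ih =>
    rw [mem_annChain_succ]
    intro j hj
    apply ih
    intro x hx
    exact h (x * j) (by rw [Submodule.pow_succ]; exact Ideal.mul_mem_mul hx hj)

lemma annChain_eq_top (J : Ideal (opAlg ρ)) [J.IsTwoSided] (hJ : IsNilpotent J) (n : ℕ)
    (hn : Module.finrank K V ≤ n) : annChain ρ J n = ⊤ := by
  obtain ⟨m, hm⟩ := hJ
  refine chain_eq_top _ (annChain_mono ρ J) (fun k hk => ?_) n hn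
  have h1 : ∀ i, annChain ρ J (k + i) = annChain ρ J k := by
    intro i
    induction i with
    | zero => rfl
    | succ i ih =>
      have : annChain ρ J (k + (i + 1)) = annChain ρ J (k + 1) := by
        ext v
        rw [← add_assoc, mem_annChain_succ, mem_annChain_succ, ih]
      rw [this, hk]
  have h2 : annChain ρ J m = ⊤ := by
    rw [eq_top_iff]
    intro v _
    refine mem_annChain_of_pow ρ J m v (fun x hx => ?_)
    rw [hm] at hx
    have : x = 0 := by simpa using hx
    rw [this]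
    rfl
  have h3 : annChain ρ J m ≤ annChain ρ J (k + m) :=
    monotone_nat_of_le_succ (annChain_mono ρ J) (Nat.le_add_left m k)
  rw [h1 m, h2] at h3
  exact top_le_iff.mp h3

lemma mem_NN_of_mem_jacobson {n : ℕ} (hn : Module.finrank K V ≤ n) {g : Γ}
    (h : opOf ρ g - 1 ∈ Ring.jacobson (opAlg ρ)) : g ∈ NN ρ n := by
  have hfin : Module.Finite K (opAlg ρ) := inferInstance
  have hart : IsArtinianRing (opAlg ρ) := IsArtinianRing.of_finite K _
  have hnil : IsNilpotent (Ring.jacobson (opAlg ρ)) := IsSemiprimaryRing.isNilpotent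
  intro ys hys
  ext v
  refine altR_apply_eq_zero_of_chain ρ (annChain ρ (Ring.jacobson (opAlg ρ))) rfl g
    (fun k y v hv => annChain_stable ρ _ k (opOf ρ y) v hv)
    (fun k v hv => (mem_annChain_succ ρ).mp hv (opOf ρ g - 1) h) ys v ?_
  rw [hys, annChain_eq_top ρ _ hnil n hn]
  trivial

lemma mem_NN_iff {n : ℕ} (hn : Module.finrank K V ≤ n) {g : Γ} :
    g ∈ NN ρ n ↔ opOf ρ g - 1 ∈ Ring.jacobson (opAlg ρ) :=
  ⟨opOf_sub_one_mem_jacobson ρ, mem_NN_of_mem_jacobson ρ hn⟩

/-- The normal subgroup of elements acting trivially on the semisimplification. -/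
def NSub (n : ℕ) (hn : Module.finrank K V ≤ n) : Subgroup Γ where
  carrier := NN ρ n
  one_mem' := by
    rw [mem_NN_iff ρ hn, opOf_one, sub_self]
    exact zero_mem _
  mul_mem' := by
    intro a b ha hb
    rw [mem_NN_iff ρ hn] at ha hb ⊢
    have : opOf ρ (a * b) - 1 = opOf ρ a * (opOf ρ b - 1) + (opOf ρ a - 1) := by
      rw [opOf_mul, _root_.mul_sub, _root_.mul_one]; abel
    rw [this]
    exact add_mem (Ideal.mul_mem_left _ _ hb) ha
  inv_mem' := by
    intro a ha
    rw [mem_NN_iff ρ hn] at ha ⊢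
    have h1 : opOf ρ a⁻¹ * opOf ρ a = 1 := by rw [← opOf_mul, inv_mul_cancel, opOf_one]
    have : opOf ρ a⁻¹ - 1 = - (opOf ρ a⁻¹ * (opOf ρ a - 1)) := by
      rw [_root_.mul_sub, h1, _root_.mul_one]; abel
    rw [this]
    exact neg_mem (Ideal.mul_mem_left _ _ ha)

@[simp] lemma mem_NSub {n : ℕ} {hn : Module.finrank K V ≤ n} {g : Γ} :
    g ∈ NSub ρ n hn ↔ g ∈ NN ρ n := Iff.rfl

instance (n : ℕ) (hn : Module.finrank K V ≤ n) : (NSub ρ n hn).Normal where
  conj_mem := by
    intro a ha b
    rw [mem_NSub, mem_NN_iff ρ hn] at ha ⊢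
    have h1 : opOf ρ b * opOf ρ b⁻¹ = 1 := by rw [← opOf_mul, mul_inv_cancel, opOf_one]
    have : opOf ρ (b * a * b⁻¹) - 1 = opOf ρ b * (opOf ρ a - 1) * opOf ρ b⁻¹ := by
      rw [opOf_mul, opOf_mul, _root_.mul_sub, _root_.mul_one, _root_.sub_mul, h1]
    rw [this]
    exact (Ring.jacobson (opAlg ρ)).mul_mem_right _ (Ideal.mul_mem_left _ _ ha)

omit [FiniteDimensional K V] in
lemma isNilpotent_of_mem_NN {n : ℕ} {g : Γ} (h : g ∈ NN ρ n) : (ρ g - 1) ^ n = 0 := by
  have key : ∀ m, altR ρ g (List.replicate m 1) = (ρ g - 1) ^ m := by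
    intro m
    induction m with
    | zero => rfl
    | succ m ih => rw [List.replicate_succ, altR_cons, ih, map_one, _root_.mul_one, pow_succ]
  rw [← key]
  exact h _ (by simp)

/-- Chain of iterated fixed vectors of a subgroup. -/
def fixChain (U : Subgroup Γ) : ℕ → Submodule K V
  | 0 => ⊥
  | k + 1 => ⨅ u : U, (fixChain U k).comap (ρ u.1 - 1)

omit [FiniteDimensional K V] in
lemma mem_fixChain_succ {U : Subgroup Γ} {k : ℕ} {v : V} :
    v ∈ fixChain ρ U (k + 1) ↔ ∀ u ∈ U, ρ u v - v ∈ fixChain ρ U k := by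
  simp [fixChain, Submodule.mem_iInf]

omit [FiniteDimensional K V] in
lemma fixChain_stable (U : Subgroup Γ) [U.Normal] (k : ℕ) (y : Γ) (v : V)
    (hv : v ∈ fixChain ρ U k) : ρ y v ∈ fixChain ρ U k := by
  induction k generalizing v with
  | zero =>
    have : v = 0 := by simpa [fixChain] using hv
    rw [this, map_zero]
    exact zero_mem _
  | succ k ih =>
    rw [mem_fixChain_succ] at hv ⊢
    intro u hu
    have h1 := ih _ (hv (y⁻¹ * u * y⁻¹⁻¹) (Subgroup.Normal.conj_mem inferInstance u hu y⁻¹))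
    have h2 : ρ y ((ρ (y⁻¹ * u * y⁻¹⁻¹)) v - v) = ρ u (ρ y v) - ρ y v := by
      rw [map_sub, ← Module.End.mul_apply, ← map_mul, ← Module.End.mul_apply (ρ u), ← map_mul]
      congr 3
      group
    rwa [h2] at h1

omit [FiniteDimensional K V] in
lemma fixChain_mono (U : Subgroup Γ) [U.Normal] (k : ℕ) :
    fixChain ρ U k ≤ fixChain ρ U (k + 1) := by
  intro v hv
  rw [mem_fixChain_succ]
  intro u _
  exact sub_mem (fixChain_stable ρ U k u v hv) hv

lemma fixChain_eq_top [IsAlgClosed K] (U : Subgroup Γ) [U.Normal]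
    (hU : ∀ u ∈ U, IsNilpotent (ρ u - 1)) (n : ℕ) (hn : Module.finrank K V ≤ n) :
    fixChain ρ U n = ⊤ := by
  refine chain_eq_top _ (fixChain_mono ρ U) (fun k hk => ?_) n hn
  by_contra hne
  have hnt : Nontrivial (V ⧸ fixChain ρ U k) := Submodule.Quotient.nontrivial_iff.mpr hne
  let σ : Representation K U (V ⧸ fixChain ρ U k) :=
    { toFun := fun u => (fixChain ρ U k).mapQ (fixChain ρ U k) (ρ u.1)
        (fun v hv => fixChain_stable ρ U k u.1 v hv)
      map_one' := by ext v; simp
      map_mul' := by intro a b; ext v; simp }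
  have hσ : ∀ (u : U) (v : V), σ u (Submodule.Quotient.mk v) = Submodule.Quotient.mk (ρ u.1 v) :=
    fun _ _ => rfl
  obtain ⟨w, hw, hw'⟩ := exists_fixed_of_unipotent σ (fun u => by
    obtain ⟨m, hm⟩ := hU u.1 u.2
    refine ⟨m, ?_⟩
    have key : ∀ (i : ℕ) (v : V), ((σ u - 1) ^ i) (Submodule.Quotient.mk v) =
        Submodule.Quotient.mk (((ρ u.1 - 1) ^ i) v) := by
      intro i
      induction i with
      | zero => intro v; rfl
      | succ i ih =>
        intro v
        rw [pow_succ, pow_succ, Module.End.mul_apply, Module.End.mul_apply, ← ih]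
        rfl
    ext v
    change ((σ u - 1) ^ m) (Submodule.Quotient.mk v) = 0
    rw [key, hm]
    rfl)
  obtain ⟨v, rfl⟩ := Submodule.Quotient.mk_surjective _ w
  apply hw
  rw [Submodule.Quotient.mk_eq_zero, hk, mem_fixChain_succ]
  intro u hu
  have := hw' ⟨u, hu⟩
  rw [hσ] at this
  exact (Submodule.Quotient.eq _).mp this

/-- A normal subgroup acting by unipotent operators is contained in `NN`. -/
theorem le_NN [IsAlgClosed K] (U : Subgroup Γ) [U.Normal]
    (hU : ∀ u ∈ U, IsNilpotent (ρ u - 1)) (n : ℕ) (hn : Module.finrank K V ≤ n) {u : Γ}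
    (hu : u ∈ U) : u ∈ NN ρ n := by
  intro ys hys
  ext v
  refine altR_apply_eq_zero_of_chain ρ (fixChain ρ U) rfl u
    (fun k y v hv => fixChain_stable ρ U k y v hv)
    (fun k v hv => (mem_fixChain_succ ρ).mp hv u hu) ys v ?_
  rw [hys, fixChain_eq_top ρ U hU n hn]
  trivial

end Abs

end Groth.Agent.Sga3B.RadOpen
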