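import Groth.Agent.Sga3B.RadOpen.Alt
import Mathlib.LinearAlgebra.Eigenspace.Basic

/-!
# Alternating sums of functions on a group

The largest normal subgroup of `Γ` all of whose elements act unipotently on the translates of a
finite family of functions is described by alternating sums of values of these functions.
-/

set_option autoImplicit false

universe u v w

namespace Groth.Agent.Sga3B.RadOpen

section Alt

variable {Γ : Type u} [Group Γ] {R : Type v} [AddCommGroup R]

/-- One step: `((g - 1) y φ)(x) = φ (x g y) - φ (x y)`. -/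
def step (g y : Γ) (φ : Γ → R) : Γ → R := fun x => φ (x * g * y) - φ (x * y)

/-- Iterated alternating sum. -/
def alt (g : Γ) : List Γ → (Γ → R) → Γ → R
  | [], φ => φ
  | y :: ys, φ => alt g ys (step g y φ)

@[simp] lemma alt_nil (g : Γ) (φ : Γ → R) : alt g [] φ = φ := rfl
@[simp] lemma alt_cons (g y : Γ) (ys : List Γ) (φ : Γ → R) :
    alt g (y :: ys) φ = alt g ys (step g y φ) := rfl

/-- Naturality of the alternating sums. -/
lemma alt_natural {Γ' : Type*} [Group Γ'] {R' : Type*} [AddCommGroup R'] (ψ : R →+ R')
    (m : Γ →* Γ') (g : Γ) (ys : List Γ) (φ : Γ → R) (φ' : Γ' → R') (h : ∀ x, ψ (φ x) = φ' (m x))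
    (x : Γ) : ψ (alt g ys φ x) = alt (m g) (ys.map m) φ' (m x) := by
  induction ys generalizing φ φ' with
  | nil => exact h x
  | cons y ys ih =>
    rw [alt_cons, List.map_cons, alt_cons]
    apply ih
    intro z
    simp only [step, map_sub, h, map_mul]

end Alt

section Rep

variable {Γ : Type u} [Group Γ] {K : Type v} [Field K]

variable (Γ K) in
/-- Right translation on functions. -/
def rt : Representation K Γ (Γ → K) where
  toFun g :=
    { toFun := fun φ x => φ (x * g)
      map_add' := fun _ _ => rfl
      map_smul' := fun _ _ => rfl }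
  map_one' := by ext; simp
  map_mul' g h := by
    ext φ x
    simp [_root_.mul_assoc]

@[simp] lemma rt_apply (g : Γ) (φ : Γ → K) (x : Γ) : rt Γ K g φ x = φ (x * g) := rfl

lemma step_eq (g y : Γ) (φ : Γ → K) : step g y φ = (rt Γ K g - 1) (rt Γ K y φ) := by
  ext x
  simp [step]

variable {ι : Type w} (φ : ι → Γ → K)

/-- Span of the right translates. -/
def tspan : Submodule K (Γ → K) := Submodule.span K (Set.range fun p : Γ × ι => rt Γ K p.1 (φ p.2))

lemma rt_mem_tspan (x : Γ) (j : ι) : rt Γ K x (φ j) ∈ tspan φ :=
  Submodule.subset_span ⟨(x, j), rfl⟩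

lemma tspan_stable (y : Γ) (v : Γ → K) (hv : v ∈ tspan φ) : rt Γ K y v ∈ tspan φ := by
  have : tspan φ ≤ (tspan φ).comap (rt Γ K y) := by
    refine Submodule.span_le.mpr ?_
    rintro _ ⟨⟨x, j⟩, rfl⟩
    change rt Γ K y (rt Γ K x (φ j)) ∈ tspan φ
    rw [← Module.End.mul_apply, ← map_mul]
    exact rt_mem_tspan φ _ _
  exact this hv

/-- The subrepresentation on the span of the right translates. -/
def trep : Representation K Γ (tspan φ) where
  toFun g := (rt Γ K g).restrict (fun v hv => tspan_stable φ g v hv)
  map_one' := by ext; simp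
  map_mul' g h := by
    ext v x
    simp [_root_.mul_assoc]

@[simp] lemma coe_trep (g : Γ) (v : tspan φ) : (trep φ g v : Γ → K) = rt Γ K g v := rfl

lemma coe_trep_sub_pow (g : Γ) (n : ℕ) (v : tspan φ) :
    (((trep φ g - 1) ^ n) v : Γ → K) = ((rt Γ K g - 1) ^ n) v.1 := by
  induction n generalizing v with
  | zero => rfl
  | succ n ih =>
    rw [pow_succ, pow_succ, Module.End.mul_apply, Module.End.mul_apply, ih]
    rfl

lemma coe_altR (g : Γ) (ys : List Γ) (v : tspan φ) :
    (altR (trep φ) g ys v : Γ → K) = alt g ys v.1 := by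
  induction ys generalizing v with
  | nil => rfl
  | cons y ys ih =>
    rw [altR_cons, Module.End.mul_apply, Module.End.mul_apply, ih, alt_cons, step_eq]
    rfl

lemma alt_cons_rt (g x y : Γ) (ys : List Γ) (v : Γ → K) :
    alt g (y :: ys) (rt Γ K x v) = alt g ((y * x) :: ys) v := by
  rw [alt_cons, alt_cons, step_eq, step_eq, map_mul, Module.End.mul_apply]

lemma mem_NN_trep_iff {n : ℕ} (hn : 0 < n) (g : Γ) :
    g ∈ NN (trep φ) n ↔ ∀ ys : List Γ, ys.length = n → ∀ j, alt g ys (φ j) = 0 := by
  constructor
  · intro h ys hys j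
    have h1 : φ j ∈ tspan φ := by simpa using rt_mem_tspan φ 1 j
    have h2 := congrArg Subtype.val (LinearMap.congr_fun (h ys hys) ⟨φ j, h1⟩)
    rwa [coe_altR] at h2
  · intro h ys hys
    obtain ⟨y, ys, rfl⟩ : ∃ y ys', ys = y :: ys' := by
      cases ys with
      | nil => simp at hys; omega
      | cons y ys => exact ⟨y, ys, rfl⟩
    have key : ∀ v ∈ tspan φ, alt g (y :: ys) v = 0 := by
      intro v hv
      have : ∀ w : tspan φ, altR (trep φ) g (y :: ys) w = 0 → alt g (y :: ys) w.1 = 0 := by
        intro w hw
        rw [← coe_altR, hw]; rfl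
      refine this ⟨v, hv⟩ ?_
      have hle : (⊤ : Submodule K (tspan φ)) ≤ LinearMap.ker (altR (trep φ) g (y :: ys)) := by
        have htop : (⊤ : Submodule K (tspan φ)) = Submodule.span K
            (Set.range fun p : Γ × ι => (⟨rt Γ K p.1 (φ p.2), rt_mem_tspan φ _ _⟩ : tspan φ)) := by
          rw [eq_comm, Submodule.eq_top_iff']
          rintro ⟨w, hw⟩
          have := Submodule.span_induction (p := fun w hw => (⟨w, hw⟩ : tspan φ) ∈
            Submodule.span K (Set.range fun p : Γ × ι =>
              (⟨rt Γ K p.1 (φ p.2), rt_mem_tspan φ _ _⟩ : tspan φ))) ?_ ?_ ?_ ?_ hw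
          · exact this
          · rintro _ ⟨p, rfl⟩
            exact Submodule.subset_span ⟨p, rfl⟩
          · exact zero_mem _
          · intro a b _ _ ha hb
            exact add_mem ha hb
          · intro c a _ ha
            exact Submodule.smul_mem _ c ha
        rw [htop, Submodule.span_le]
        rintro _ ⟨⟨x, j⟩, rfl⟩
        rw [SetLike.mem_coe, LinearMap.mem_ker]
        apply Subtype.ext
        rw [coe_altR]
        change alt g (y :: ys) (rt Γ K x (φ j)) = 0
        rw [alt_cons_rt]
        exact h _ (by simpa using hys) j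
      exact hle (Submodule.mem_top)
    ext v : 1
    apply Subtype.ext
    rw [coe_altR]
    exact key v.1 v.2

/-- **Main result on functions.** Let `φ j` be a finite (or arbitrary) family of functions on the
group `Γ` whose right translates lie in the span of `n` functions.  Then the elements `g` for which
all alternating sums of length `n` vanish form a normal subgroup acting unipotently on the `φ j`,
and this subgroup contains every normal subgroup whose elements act unipotently. -/
theorem exists_normal_subgroup [IsAlgClosed K] {κ : Type*} [Fintype κ] (a : κ → Γ → K)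
    (ha : ∀ x j, rt Γ K x (φ j) ∈ Submodule.span K (Set.range a)) (n : ℕ)
    (hn : Fintype.card κ ≤ n) (hn0 : 0 < n) :
    ∃ N : Subgroup Γ, N.Normal ∧
      (∀ g, g ∈ N ↔ ∀ ys : List Γ, ys.length = n → ∀ j, alt g ys (φ j) = 0) ∧
      (∀ g ∈ N, ∀ j, ((rt Γ K g - 1) ^ n) (φ j) = 0) ∧
      (∀ U : Subgroup Γ, U.Normal → (∀ u ∈ U, ∀ j, ∃ m : ℕ, ((rt Γ K u - 1) ^ m) (φ j) = 0) →
        U ≤ N) := by
  have hle : tspan φ ≤ Submodule.span K (Set.range a) := by
    refine Submodule.span_le.mpr ?_
    rintro _ ⟨p, rfl⟩
    exact ha _ _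
  have hfd : FiniteDimensional K (Submodule.span K (Set.range a)) :=
    FiniteDimensional.span_of_finite K (Set.finite_range a)
  have hfd' : FiniteDimensional K (tspan φ) := Submodule.finiteDimensional_of_le hle
  have hrank : Module.finrank K (tspan φ) ≤ n :=
    (Submodule.finrank_mono hle).trans ((finrank_range_le_card a).trans hn)
  refine ⟨NSub (trep φ) n hrank, inferInstance, fun g => mem_NN_trep_iff φ hn0 g, ?_, ?_⟩
  · intro g hg j
    have h1 : φ j ∈ tspan φ := by simpa using rt_mem_tspan φ 1 j
    have h2 := isNilpotent_of_mem_NN (trep φ) hg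
    have h3 := coe_trep_sub_pow φ g n ⟨φ j, h1⟩
    rw [h2] at h3
    exact h3.symm
  · intro U hU hu u huU
    refine le_NN (trep φ) U (fun u hu' => ?_) n hrank huU
    refine ⟨Module.finrank K (tspan φ), ?_⟩
    -- every generator is killed by a power
    have hker : (⊤ : Submodule K (tspan φ)) ≤
        LinearMap.ker ((trep φ u - 1) ^ Module.finrank K (tspan φ)) := by
      have h0 : tspan φ ≤ (LinearMap.ker ((trep φ u - 1) ^ Module.finrank K (tspan φ))).map
          (tspan φ).subtype := by
        refine Submodule.span_le.mpr ?_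
        rintro _ ⟨⟨x, j⟩, rfl⟩
        refine ⟨⟨rt Γ K x (φ j), rt_mem_tspan φ _ _⟩, ?_, rfl⟩
        obtain ⟨m, hm⟩ := hu (x⁻¹ * u * x⁻¹⁻¹) (hU.conj_mem u hu' x⁻¹) j
        apply Module.End.ker_pow_le_ker_pow_finrank (f := (trep φ u - 1)) (m := m)
        rw [LinearMap.mem_ker]
        apply Subtype.ext
        rw [coe_trep_sub_pow]
        change ((rt Γ K u - 1) ^ m) (rt Γ K x (φ j)) = 0
        have key : ∀ (i : ℕ) (v : Γ → K), ((rt Γ K u - 1) ^ i) (rt Γ K x v) =
            rt Γ K x (((rt Γ K (x⁻¹ * u * x⁻¹⁻¹) - 1) ^ i) v) := by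
          intro i
          induction i with
          | zero => intro v; rfl
          | succ i ih =>
            intro v
            rw [pow_succ, pow_succ, Module.End.mul_apply, Module.End.mul_apply, ← ih]
            congr 1
            ext z
            simp only [LinearMap.sub_apply, Module.End.one_apply, Pi.sub_apply, rt_apply]
            congr 2
            group
        rw [key, hm, map_zero]
      intro v _
      obtain ⟨w, hw, hw'⟩ := h0 v.2
      have : w = v := Subtype.ext hw'
      rwa [← this]
    exact LinearMap.ext fun v => hker (Submodule.mem_top (x := v))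

end Rep

end Groth.Agent.Sga3B.RadOpen
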