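import Groth.Agent.Sga3B.RadOpen.RadSet

/-!
# The closed subset of points commuting with the whole group modulo a closed subset
-/

set_option autoImplicit false

universe u

open CategoryTheory MonoidalCategory CartesianMonoidalCategory MonObj GrpObj AlgebraicGeometry Limits

namespace Groth.Agent.Sga3B.RadOpen

variable {S : Scheme.{u}} {G : Over S} [GrpObj G]

variable (G) in
/-- The commutator morphism. -/
noncomputable def commHom : G ⊗ G ⟶ G := fst G G * snd G G * (fst G G)⁻¹ * (snd G G)⁻¹

lemma lift_commHom {T : Over S} (g h : T ⟶ G) :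
    lift g h ≫ commHom G = g * h * g⁻¹ * h⁻¹ := by
  rw [commHom, MonObj.comp_mul, MonObj.comp_mul, MonObj.comp_mul, GrpObj.comp_inv, GrpObj.comp_inv,
    lift_fst, lift_snd]

/-- Points `g` with `[g, h] ∈ N` for all `h`. -/
noncomputable def CSet (N : Set G.left) : Set G.left :=
  allSet (X := G) (P := G) ((commHom G).left ⁻¹' N)

lemma isClosed_CSet [Smooth G.hom] {N : Set G.left} (hN : IsClosed N) : IsClosed (CSet N) :=
  isClosed_allSet (hN.preimage (commHom G).left.continuous)

theorem gpt_mem_CSet_iff [Smooth G.hom] {N : Set G.left} (hN : IsClosed N) {K : Type u} [Field K]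
    [IsAlgClosed K] {a : Spec (CommRingCat.of K) ⟶ S} (g : Over.mk a ⟶ G) :
    gpt g ∈ CSet N ↔ ∀ h : Over.mk a ⟶ G, gpt (g * h * g⁻¹ * h⁻¹) ∈ N := by
  rw [CSet, gpt_mem_allSet_iff (hN.preimage (commHom G).left.continuous)]
  refine forall_congr' fun h => ?_
  rw [Set.mem_preimage, ← gpt_comp, lift_commHom]

end Groth.Agent.Sga3B.RadOpen
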