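import Groth.Agent.Sga3B.RadOpen.NSet
import Mathlib.AlgebraicGeometry.Morphisms.Affine
import Mathlib.AlgebraicGeometry.Morphisms.FiniteType

/-!
# Matrix coefficients of translates of functions on an affine group scheme
-/

set_option autoImplicit false

universe u

open CategoryTheory MonoidalCategory CartesianMonoidalCategory MonObj GrpObj AlgebraicGeometry Limits

namespace Groth.Agent.Sga3B.RadOpen

/-- Every element of a pushout of commutative rings is a finite sum of products. -/
lemma exists_sum_of_isPushout {A B C P : CommRingCat.{u}} {f : A ⟶ B} {g : A ⟶ C} {i : B ⟶ P}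
    {j : C ⟶ P} (h : IsPushout f g i j) (p : P) :
    ∃ (n : ℕ) (b : Fin n → B) (c : Fin n → C), p = ∑ k, i (b k) * j (c k) := by
  let _ : Algebra A B := f.hom.toAlgebra
  let _ : Algebra A C := g.hom.toAlgebra
  have h2 := CommRingCat.isPushout_tensorProduct A B C
  let e := h2.isoIsPushout _ _ h
  have he : Function.Surjective e.hom := by
    intro x
    exact ⟨e.inv x, by simp⟩
  obtain ⟨t, rfl⟩ := he p
  induction t using TensorProduct.induction_on with
  | zero => exact ⟨0, Fin.elim0, Fin.elim0, by simp⟩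
  | tmul x y =>
    refine ⟨1, fun _ => x, fun _ => y, ?_⟩
    have h1 : (x ⊗ₜ[A] y : TensorProduct A B C) = (CommRingCat.ofHom
        (Algebra.TensorProduct.includeLeftRingHom (R := A) (A := B) (B := C))) x *
        (CommRingCat.ofHom
        (Algebra.TensorProduct.includeRight (R := A) (A := B) (B := C)).toRingHom) y := by
      simp
    have h3 : (CommRingCat.ofHom
        (Algebra.TensorProduct.includeLeftRingHom (R := A) (A := B) (B := C))) ≫ e.hom = i :=
      h2.inl_isoIsPushout_hom _ _ h
    have h4 : (CommRingCat.ofHom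
        (Algebra.TensorProduct.includeRight (R := A) (A := B) (B := C)).toRingHom) ≫ e.hom = j :=
      h2.inr_isoIsPushout_hom _ _ h
    rw [h1, map_mul, Fin.sum_univ_one, ← h3, ← h4]
    rfl
  | add x y hx hy =>
    obtain ⟨n, b, c, hb⟩ := hx
    obtain ⟨m, b', c', hb'⟩ := hy
    refine ⟨n + m, Fin.append b b', Fin.append c c', ?_⟩
    rw [map_add, hb, hb', Fin.sum_univ_add]
    simp

variable {S : Scheme.{u}}

/-- Functions on a product of affine schemes over an affine base. -/
lemma exists_sum_fst_snd [IsAffine S] (X Y : Over S) [IsAffineHom X.hom] [IsAffineHom Y.hom]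
    (F : Γ((X ⊗ Y).left, ⊤)) :
    ∃ (n : ℕ) (a : Fin n → Γ(X.left, ⊤)) (b : Fin n → Γ(Y.left, ⊤)),
      F = ∑ k, (fst X Y).left.appTop (a k) * (snd X Y).left.appTop (b k) := by
  have hX : IsAffine X.left := isAffine_of_isAffineHom X.hom
  have hY : IsAffine Y.left := isAffine_of_isAffineHom Y.hom
  have sq : IsPullback (fst X Y).left (snd X Y).left X.hom Y.hom :=
    IsPullback.of_hasPullback X.hom Y.hom
  exact exists_sum_of_isPushout (isPushout_appTop_of_isPullback sq) F

variable {G : Over S} [GrpObj G]

/-- Translates of a function. -/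
lemma exists_coef [IsAffine S] [IsAffineHom G.hom] (f : Γ(G.left, ⊤)) :
    ∃ (n : ℕ) (a b : Fin n → Γ(G.left, ⊤)), ∀ {K : Type u} [Field K]
      {p : Spec (CommRingCat.of K) ⟶ S} (x y : Over.mk p ⟶ G),
      evg (x * y) f = ∑ k, evg x (a k) * evg y (b k) := by
  obtain ⟨n, a, b, hab⟩ := exists_sum_fst_snd G G (μ[G].left.appTop f)
  refine ⟨n, a, b, fun {K} _ {p} x y => ?_⟩
  have h1 : x * y = lift x y ≫ μ[G] := rfl
  rw [h1, evg_comp, hab, map_sum]
  refine Finset.sum_congr rfl fun k _ => ?_
  rw [map_mul, ← evg_comp, ← evg_comp, lift_fst, lift_snd]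

/-- Finitely many functions separating field-valued points: generators of the ring. -/
lemma exists_generators [IsAffine S] (X : Over S) [IsAffineHom X.hom] [LocallyOfFiniteType X.hom] :
    ∃ s : Finset Γ(X.left, ⊤), (X.hom.appTop.hom.range : Subring Γ(X.left, ⊤)) ⊔
      Subring.closure s = ⊤ := by
  have hX : IsAffine X.left := isAffine_of_isAffineHom X.hom
  have h1 : X.hom.appTop.hom.FiniteType := HasRingHomProperty.appTop @LocallyOfFiniteType X.hom ‹_›
  algebraize [X.hom.appTop.hom]
  obtain ⟨s, hs⟩ := h1.out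
  refine ⟨s, ?_⟩
  rw [eq_top_iff]
  intro x _
  have hx : x ∈ Algebra.adjoin Γ(S, ⊤) (s : Set Γ(X.left, ⊤)) := by rw [hs]; trivial
  induction hx using Algebra.adjoin_induction with
  | mem x hx =>
    have h2 : Subring.closure (s : Set Γ(X.left, ⊤)) ≤
      X.hom.appTop.hom.range ⊔ Subring.closure s := le_sup_right
    exact h2 (Subring.subset_closure hx)
  | algebraMap c =>
    have h2 : X.hom.appTop.hom.range ≤
      X.hom.appTop.hom.range ⊔ Subring.closure (s : Set Γ(X.left, ⊤)) := le_sup_left
    exact h2 ⟨c, rfl⟩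
  | add x y _ _ hx hy => exact add_mem (hx trivial) (hy trivial)
  | mul x y _ _ hx hy => exact mul_mem (hx trivial) (hy trivial)

/-- Finitely many functions separate field-valued points. -/
lemma exists_separating [IsAffine S] (X : Over S) [IsAffineHom X.hom]
    [LocallyOfFiniteType X.hom] :
    ∃ s : Finset Γ(X.left, ⊤), ∀ {K : Type u} [Field K] {p : Spec (CommRingCat.of K) ⟶ S}
      (x y : Over.mk p ⟶ X), (∀ f ∈ s, evg x f = evg y f) → x = y := by
  have hX : IsAffine X.left := isAffine_of_isAffineHom X.hom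
  obtain ⟨s, hs⟩ := exists_generators X
  refine ⟨s, fun {K} _ {p} x y h => ?_⟩
  have h1 : (⊤ : Subring Γ(X.left, ⊤)) ≤ (evg x).eqLocus (evg y) := by
    rw [← hs, sup_le_iff]
    constructor
    · rintro _ ⟨c, rfl⟩
      change evg x (X.hom.appTop.hom c) = evg y (X.hom.appTop.hom c)
      have h3 : ∀ z : Over.mk p ⟶ X, evg z (X.hom.appTop.hom c) =
          (Scheme.ΓSpecIso (CommRingCat.of K)).hom.hom (p.appTop c) := by
        intro z
        have h4 : p.appTop = X.hom.appTop ≫ z.left.appTop := by
          rw [← Scheme.Hom.comp_appTop, Over.w]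
          rfl
        rw [h4]
        rfl
      rw [h3, h3]
    · rw [Subring.closure_le]
      intro f hf
      exact h f hf
  ext1
  apply ext_of_isAffine
  ext f
  have h2 : evg x f = evg y f := h1 (Subring.mem_top f)
  exact (ConcreteCategory.bijective_of_isIso (Scheme.ΓSpecIso (CommRingCat.of K)).hom).1 h2

end Groth.Agent.Sga3B.RadOpen
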