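import Mathlib.AlgebraicGeometry.ZariskisMainTheorem
import Mathlib.AlgebraicGeometry.Fiber
import Mathlib.AlgebraicGeometry.IdealSheaf.Subscheme

/-!
# Openness of the locus where a section is isolated in a closed subset of its fibre
-/

set_option autoImplicit false

universe u

open CategoryTheory AlgebraicGeometry Limits TopologicalSpace

namespace Groth.Agent.Sga3B.RadOpen

/-- `x` is isolated in the intersection of `C` with the fibre of `π` through `x`. -/
def IsolAt {X Y : Scheme.{u}} (π : X ⟶ Y) (C : Set X) (x : X) : Prop :=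
  ∃ O : Set X, IsOpen O ∧ x ∈ O ∧ ∀ z ∈ O, z ∈ C → π z = π x → z = x

lemma quasiFiniteAt_iff_isolAt {X Y : Scheme.{u}} (f : X ⟶ Y) [LocallyOfFiniteType f] (x : X) :
    f.QuasiFiniteAt x ↔ IsolAt f Set.univ x := by
  rw [Scheme.Hom.quasiFiniteAt_iff_isOpen_singleton_asFiber, ← (f.fiberHomeo (f x)).isOpen_image]
  simp only [Set.image_singleton, Scheme.Hom.asFiber, Homeomorph.apply_symm_apply]
  rw [isOpen_induced_iff]
  constructor
  · rintro ⟨O, hO, hO'⟩
    refine ⟨O, hO, ?_, fun z hz _ hzx => ?_⟩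
    · have : (⟨x, rfl⟩ : f ⁻¹' {f x}) ∈ Subtype.val ⁻¹' O := by rw [hO']; rfl
      exact this
    · have : (⟨z, hzx⟩ : f ⁻¹' {f x}) ∈ Subtype.val ⁻¹' O := hz
      rw [hO'] at this
      exact congrArg Subtype.val this
  · rintro ⟨O, hO, hx, h⟩
    refine ⟨O, hO, ?_⟩
    ext ⟨z, hz⟩
    simp only [Set.mem_preimage, Set.mem_singleton_iff, Subtype.mk.injEq]
    constructor
    · intro hzO
      exact h z hzO trivial hz
    · rintro rfl
      exact hx

theorem isOpen_setOf_isolAt {X Y : Scheme.{u}} (π : X ⟶ Y) [LocallyOfFiniteType π] {C : Set X}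
    (hC : IsClosed C) (e : Y → X) (he : Continuous e)
    (heC : ∀ y, e y ∈ C) : IsOpen {y | IsolAt π C (e y)} := by
  let I : X.IdealSheafData := Scheme.IdealSheafData.vanishingIdeal ⟨C, hC⟩
  let i := I.subschemeι
  have hr : Set.range i = C := by
    change Set.range I.subschemeι = _
    rw [Scheme.IdealSheafData.range_subschemeι]
    simp [I]
  let f := i ≫ π
  have hf : LocallyOfFiniteType f := inferInstanceAs (LocallyOfFiniteType (i ≫ π))
  obtain ⟨O', hO', hO''⟩ := (i.isEmbedding.isInducing.isOpen_iff).mp f.quasiFiniteLocus.isOpen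
  have key : ∀ y, IsolAt π C (e y) ↔ e y ∈ O' := by
    intro y
    obtain ⟨c, hc⟩ : e y ∈ Set.range i := by rw [hr]; exact heC y
    rw [← hc]
    have h1 : i c ∈ O' ↔ c ∈ i ⁻¹' O' := Iff.rfl
    rw [h1, hO'']
    change _ ↔ f.QuasiFiniteAt c
    rw [quasiFiniteAt_iff_isolAt]
    have hfc : ∀ z, f z = π (i z) := fun z => by simp [f]
    constructor
    · rintro ⟨O, hO, hcO, h⟩
      refine ⟨i ⁻¹' O, hO.preimage i.continuous, hcO, fun z hz _ hzc => ?_⟩
      rw [hfc, hfc] at hzc
      exact i.isEmbedding.injective (h _ hz (by rw [← hr]; exact ⟨z, rfl⟩) hzc)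
    · rintro ⟨O, hO, hcO, h⟩
      obtain ⟨P, hP, rfl⟩ := (i.isEmbedding.isInducing.isOpen_iff).mp hO
      refine ⟨P, hP, hcO, fun z hz hzC hzc => ?_⟩
      rw [← hr] at hzC
      obtain ⟨w, rfl⟩ := hzC
      exact congrArg _ (h w hz trivial (by rw [hfc, hfc]; exact hzc))
  simp only [key]
  exact hO'.preimage he

/-- Isolated points descend from a fibre over a field-valued point. -/
theorem isolAt_of_pullback {X Y : Scheme.{u}} (π : X ⟶ Y) {K : Type u} [Field K]
    (p : Spec (CommRingCat.of K) ⟶ Y) (C : Set X) (z : ↥(pullback π p))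
    (O' : Set ↥(pullback π p)) (hO' : IsOpen O') (hz : z ∈ O')
    (h : ∀ w ∈ O', pullback.fst π p w ∈ C → w = z) : IsolAt π C (pullback.fst π p z) := by
  let s : Y := p (IsLocalRing.closedPoint K)
  obtain ⟨c, hc⟩ : ∃ c : Spec (CommRingCat.of K) ⟶ Spec (Y.residueField s),
      c ≫ Y.fromSpecResidueField s = p :=
    ⟨_, Scheme.descResidueField_stalkClosedPointTo_fromSpecResidueField K Y p⟩
  have hs : ∀ w : ↥(pullback π p), π (pullback.fst π p w) = s := by
    intro w
    rw [← Scheme.Hom.comp_apply, pullback.condition, Scheme.Hom.comp_apply]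
    congr 1
    exact Subsingleton.elim (α := PrimeSpectrum K) _ _
  -- the map to the scheme-theoretic fibre
  let g : pullback π p ⟶ π.fiber s := pullback.lift (pullback.fst π p) (pullback.snd π p ≫ c)
    (by rw [pullback.condition, Category.assoc, hc])
  have hg1 : g ≫ π.fiberι s = pullback.fst π p := pullback.lift_fst _ _ _
  have sq : IsPullback g (pullback.snd π p) (π.fiberToSpecResidueField s) c := by
    refine IsPullback.of_right (h₁₂ := π.fiberι s) (v₁₃ := π) (h₂₂ := Y.fromSpecResidueField s)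
      ?_ (pullback.lift_snd _ _ _) (IsPullback.of_hasPullback π (Y.fromSpecResidueField s))
    rw [hg1, hc]
    exact IsPullback.of_hasPullback π p
  have hopen : UniversallyOpen c := by
    have : Subsingleton ↥(Spec (Y.residueField s)) :=
      inferInstanceAs (Subsingleton (PrimeSpectrum (Y.residueField s)))
    infer_instance
  have hgo : UniversallyOpen g := MorphismProperty.of_isPullback sq.flip hopen
  have h1 : IsOpen (g '' O') := g.isOpenMap _ hO'
  obtain ⟨O, hO, hOe⟩ := (π.fiberι s).isEmbedding.isInducing.isOpen_iff.mp h1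
  have hgι : ∀ w, π.fiberι s (g w) = pullback.fst π p w := fun w => by
    rw [← Scheme.Hom.comp_apply, hg1]
  refine ⟨O, hO, ?_, fun y hy hyC hyz => ?_⟩
  · rw [← hgι z]
    change g z ∈ π.fiberι s ⁻¹' O
    rw [hOe]
    exact ⟨z, hz, rfl⟩
  · rw [hs z] at hyz
    obtain ⟨y', rfl⟩ : y ∈ Set.range (π.fiberι s) := by
      rw [Scheme.Hom.range_fiberι]
      exact hyz
    have : y' ∈ π.fiberι s ⁻¹' O := hy
    rw [hOe] at this
    obtain ⟨w, hw, rfl⟩ := this
    rw [hgι] at hyC ⊢
    rw [h w hw hyC]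

/-- Isolated points along a section are preserved by passing to a field-valued fibre. -/
theorem pullback_of_isolAt {X Y : Scheme.{u}} (π : X ⟶ Y) {K : Type u} [Field K]
    (p : Spec (CommRingCat.of K) ⟶ Y) (C : Set X) (e : Y ⟶ X) (he : e ≫ π = 𝟙 Y)
    (eK : Spec (CommRingCat.of K) ⟶ pullback π p) (h1 : eK ≫ pullback.fst π p = p ≫ e)
    (h2 : eK ≫ pullback.snd π p = 𝟙 _)
    (h : IsolAt π C (e (p (IsLocalRing.closedPoint K)))) :
    ∃ O' : Set ↥(pullback π p), IsOpen O' ∧ eK (IsLocalRing.closedPoint K) ∈ O' ∧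
      ∀ w ∈ O', pullback.fst π p w ∈ C → w = eK (IsLocalRing.closedPoint K) := by
  obtain ⟨O, hO, heO, hO'⟩ := h
  refine ⟨pullback.fst π p ⁻¹' O, hO.preimage (pullback.fst π p).continuous, ?_, fun w hw hwC => ?_⟩
  · rw [Set.mem_preimage, ← Scheme.Hom.comp_apply, h1]
    exact heO
  · have h3 : ∀ y : Y, π (e y) = y := fun y => by
      rw [← Scheme.Hom.comp_apply, he]; rfl
    have h4 : pullback.fst π p w = e (p (IsLocalRing.closedPoint K)) := by
      refine hO' _ hw hwC ?_
      rw [h3, ← Scheme.Hom.comp_apply, pullback.condition, Scheme.Hom.comp_apply]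
      congr 1
      exact Subsingleton.elim (α := PrimeSpectrum K) _ _
    have sq : IsPullback p eK e (pullback.fst π p) := by
      refine IsPullback.of_bot (v₂₁ := pullback.snd π p) (v₂₂ := π) (h₃₁ := p) ?_ h1.symm
        (IsPullback.of_hasPullback π p)
      rw [he, h2]
      exact IsPullback.of_vert_isIso ⟨by simp⟩
    obtain ⟨t, -, ht⟩ := Scheme.Pullback.exists_preimage_pullback (f := e)
      (g := pullback.fst π p) _ w h4.symm
    have h5 : pullback.snd e (pullback.fst π p) = sq.isoPullback.inv ≫ eK := by simp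
    rw [h5, Scheme.Hom.comp_apply] at ht
    rw [← ht]
    congr 1
    exact Subsingleton.elim (α := PrimeSpectrum K) _ _

end Groth.Agent.Sga3B.RadOpen
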