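import Groth.Prelude.Def_Red
import Groth.Agent.Sga3B.BcIso
import Mathlib.AlgebraicGeometry.Morphisms.Affine

/-!
# Reductivity and semisimplicity are invariant under isomorphisms of group schemes
-/

set_option autoImplicit false

universe u

open CategoryTheory MonoidalCategory CartesianMonoidalCategory MonObj GrpObj AlgebraicGeometry Limits

namespace Groth.Agent.Sga3B.RadOpen

section

variable {S : Scheme.{u}} {G H : Over S} [GrpObj G] [GrpObj H] (e : G ≅ H) [IsMonHom e.hom]

lemma isNormalHom_comp_inv {N : Over S} [GrpObj N] {i : N ⟶ H} (h : AlgGrp.IsNormalHom i) :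
    AlgGrp.IsNormalHom (i ≫ e.inv) := by
  have : IsMonHom e.inv := inferInstance
  intro T g n
  obtain ⟨n', hn'⟩ := h T (g ≫ e.hom) n
  refine ⟨n', ?_⟩
  rw [← Category.assoc n' i, ← hn', MonObj.mul_comp, MonObj.mul_comp, GrpObj.inv_comp,
    Category.assoc g, e.hom_inv_id, Category.comp_id, Category.assoc]

omit [GrpObj G] [GrpObj H] [IsMonHom e.hom] in
lemma isIso_hom_left : IsIso e.hom.left := inferInstanceAs (IsIso ((Over.forget S).map e.hom))

omit [GrpObj G] [GrpObj H] [IsMonHom e.hom] in
lemma isIso_inv_left : IsIso e.inv.left := inferInstanceAs (IsIso ((Over.forget S).map e.inv))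

end

variable {K : Type u} [Field K] {G H : Over (Spec (CommRingCat.of K))} [GrpObj G] [GrpObj H]
  (e : G ≅ H) [IsMonHom e.hom]

include e in
lemma isReductiveOver_of_iso (h : Red.IsReductiveOver K G) : Red.IsReductiveOver K H := by
  have h1 : IsIso e.hom.left := isIso_hom_left e
  have h2 : IsIso e.inv.left := isIso_inv_left e
  have : IsMonHom e.inv := inferInstance
  obtain ⟨ha, hs, hc, hr⟩ := h
  refine ⟨IsAffine.of_isIso e.inv.left, ?_, ?_, fun U _ i _ hi hsU hcU hn hno => ?_⟩
  · rw [← Over.w e.inv]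
    infer_instance
  · exact (Scheme.Hom.homeomorph e.hom.left).surjective.connectedSpace
      (Scheme.Hom.homeomorph e.hom.left).continuous
  · refine hr U (i ≫ e.inv) ?_ hsU hcU (isNormalHom_comp_inv e hn) hno
    rw [Over.comp_left]
    infer_instance

include e in
lemma isSemisimpleOver_of_iso (h : Red.IsSemisimpleOver K G) : Red.IsSemisimpleOver K H := by
  have h1 : IsIso e.hom.left := isIso_hom_left e
  have h2 : IsIso e.inv.left := isIso_inv_left e
  have : IsMonHom e.inv := inferInstance
  refine ⟨isReductiveOver_of_iso e h.1, fun T _ i _ hi hn hT => ?_⟩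
  refine h.2 T (i ≫ e.inv) ?_ (isNormalHom_comp_inv e hn) hT
  rw [Over.comp_left]
  infer_instance

include e in
lemma isReductiveOver_iff_of_iso : Red.IsReductiveOver K G ↔ Red.IsReductiveOver K H :=
  have : IsMonHom e.symm.hom := inferInstanceAs (IsMonHom e.inv)
  ⟨isReductiveOver_of_iso e, isReductiveOver_of_iso e.symm⟩

include e in
lemma isSemisimpleOver_iff_of_iso : Red.IsSemisimpleOver K G ↔ Red.IsSemisimpleOver K H :=
  have : IsMonHom e.symm.hom := inferInstanceAs (IsMonHom e.inv)
  ⟨isSemisimpleOver_of_iso e, isSemisimpleOver_of_iso e.symm⟩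


lemma isReductiveOver_iff_of_grpIso (e : Grp.mk G ≅ Grp.mk H) :
    Red.IsReductiveOver K G ↔ Red.IsReductiveOver K H := by
  let e' : G ≅ H := ⟨e.hom.hom.hom, e.inv.hom.hom, congrArg (fun f => f.hom.hom) e.hom_inv_id,
    congrArg (fun f => f.hom.hom) e.inv_hom_id⟩
  have : IsMonHom e'.hom := e.hom.hom.isMonHom_hom
  exact isReductiveOver_iff_of_iso e'

lemma isSemisimpleOver_iff_of_grpIso (e : Grp.mk G ≅ Grp.mk H) :
    Red.IsSemisimpleOver K G ↔ Red.IsSemisimpleOver K H := by
  let e' : G ≅ H := ⟨e.hom.hom.hom, e.inv.hom.hom, congrArg (fun f => f.hom.hom) e.hom_inv_id,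
    congrArg (fun f => f.hom.hom) e.inv_hom_id⟩
  have : IsMonHom e'.hom := e.hom.hom.isMonHom_hom
  exact isSemisimpleOver_iff_of_iso e'

end Groth.Agent.Sga3B.RadOpen
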