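import Groth.Prelude.Def_Red
import Mathlib.AlgebraicGeometry.AlgClosed.Basic
import Mathlib.AlgebraicGeometry.Morphisms.UniversallyOpen

/-!
# Closed conditions quantified over a universally open parameter space

For `X P : Over S` and a closed subset `Z` of `X ⊗ P`, the set of points `x` of `X` such that the
whole fibre `{x} × P` lies in `Z` is closed when `P ⟶ S` is universally open, and a geometric point
`x` of `X` lies in it if and only if `(x, p) ∈ Z` for all geometric points `p` of `P` (same field).
-/

set_option autoImplicit false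

universe u

open CategoryTheory MonoidalCategory CartesianMonoidalCategory MonObj GrpObj AlgebraicGeometry Limits

namespace Groth.Agent.Sga3B.RadOpen

variable {S : Scheme.{u}}

/-- The topological point underlying a point with values in a field. -/
noncomputable def gpt {K : Type u} [Field K] {a : Spec (CommRingCat.of K) ⟶ S} {X : Over S}
    (x : Over.mk a ⟶ X) : X.left := x.left (IsLocalRing.closedPoint K)

lemma gpt_comp {K : Type u} [Field K] {a : Spec (CommRingCat.of K) ⟶ S} {X Y : Over S}
    (x : Over.mk a ⟶ X) (f : X ⟶ Y) : gpt (x ≫ f) = f.left (gpt x) := by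
  simp [gpt]

/-- Points `x` of `X` with `{x} × P ⊆ Z`. -/
def allSet {X P : Over S} (Z : Set (X ⊗ P).left) : Set X.left := ((fst X P).left '' Zᶜ)ᶜ

lemma universallyOpen_fst_left (X P : Over S) [UniversallyOpen P.hom] :
    UniversallyOpen (fst X P).left := by
  change UniversallyOpen (pullback.fst X.hom P.hom)
  infer_instance

lemma locallyOfFiniteType_fst_left (X P : Over S) [LocallyOfFiniteType P.hom] :
    LocallyOfFiniteType (fst X P).left := by
  change LocallyOfFiniteType (pullback.fst X.hom P.hom)
  infer_instance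

lemma isClosed_allSet {X P : Over S} [UniversallyOpen P.hom] {Z : Set (X ⊗ P).left}
    (hZ : IsClosed Z) : IsClosed (allSet Z) := by
  have := universallyOpen_fst_left X P
  exact ((fst X P).left.isOpenMap _ hZ.isOpen_compl).isClosed_compl

theorem gpt_mem_allSet_iff {X P : Over S} [LocallyOfFiniteType P.hom] {Z : Set (X ⊗ P).left}
    (hZ : IsClosed Z) {K : Type u} [Field K] [IsAlgClosed K] {a : Spec (CommRingCat.of K) ⟶ S}
    (x : Over.mk a ⟶ X) :
    gpt x ∈ allSet Z ↔ ∀ p : Over.mk a ⟶ P, gpt (lift x p) ∈ Z := by
  constructor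
  · intro h p
    by_contra hp
    refine h ⟨gpt (lift x p), hp, ?_⟩
    rw [← gpt_comp, lift_fst]
  · intro h hx
    obtain ⟨t, ht, htx⟩ := hx
    have hlft := locallyOfFiniteType_fst_left X P
    let x' : Spec (CommRingCat.of K) ⟶ X.left := x.left
    obtain ⟨z, hz1, hz2⟩ := Scheme.Pullback.exists_preimage_pullback (f := x')
      (g := (fst X P).left) (IsLocalRing.closedPoint K) t htx.symm
    let p₁ := pullback.fst x' (fst X P).left
    let p₂ := pullback.snd x' (fst X P).left
    have hl : LocallyOfFiniteType p₁ := inferInstanceAs (LocallyOfFiniteType (pullback.fst _ _))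
    have := LocallyOfFiniteType.jacobsonSpace p₁
    have hW : (p₂ ⁻¹' Zᶜ).Nonempty := ⟨z, by rw [Set.mem_preimage, hz2]; exact ht⟩
    obtain ⟨w, hw, hwc⟩ := nonempty_inter_closedPoints hW
      (hZ.isOpen_compl.preimage p₂.continuous).isLocallyClosed
    let q := pointOfClosedPoint p₁ w hwc
    have hq : q ≫ p₁ = 𝟙 _ := pointOfClosedPoint_comp p₁ w hwc
    have hq2 : (q ≫ p₂) ≫ (fst X P).left = x' := by
      rw [Category.assoc, ← pullback.condition, ← Category.assoc]
      change (q ≫ p₁) ≫ x' = x'
      rw [hq, Category.id_comp]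
    have hx' : x' ≫ X.hom = a := Over.w x
    have hq3 : (q ≫ p₂) ≫ (X ⊗ P).hom = a := by
      rw [← Over.w (fst X P), ← Category.assoc, hq2, hx']
    let r : Over.mk a ⟶ X ⊗ P := Over.homMk (q ≫ p₂) hq3
    have hr1 : r ≫ fst X P = x := by
      ext1
      exact hq2
    have hr : lift x (r ≫ snd X P) = r := by
      ext1
      · rw [lift_fst, hr1]
      · rw [lift_snd]
    have h1 := h (r ≫ snd X P)
    rw [hr] at h1
    have e : gpt r = p₂ w := by
      change (q ≫ p₂) (IsLocalRing.closedPoint K) = p₂ w
      rw [Scheme.Hom.comp_apply, pointOfClosedPoint_apply]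
    rw [e] at h1
    exact hw h1

end Groth.Agent.Sga3B.RadOpen
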