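import Groth.Agent.Sga3B.RG.BrRed
import Groth.Agent.Sga3B.RG.CentralPt

/-!
# Groups over an algebraically closed field without subtori have trivial cocharacters
-/

set_option autoImplicit false

universe u

open CategoryTheory MonoidalCategory CartesianMonoidalCategory MonObj GrpObj AlgebraicGeometry
open Groth.Agent.Books.AffBridge Groth.Agent.Books.AffBridge2
open TensorProduct Coalgebra
open scoped LaurentPolynomial

namespace Groth.Agent.Sga3B.RadOpen

open RG RG.BrPts RG.BrDiag RG.BrTorus RG.BrRed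

section image

variable {K : Type u} [Field K] {A : Type u} [CommRing A] [HopfAlgebra K A]
  {Γ : Type} [CommGroup Γ]

/-- A bialgebra map into a group algebra factors through the group algebra of its image. -/
lemma exists_factor_imgChar (φ : A →ₐc[K] MonoidAlgebra K Γ) :
    ∃ π : A →ₐc[K] MonoidAlgebra K (imgChar φ), Function.Surjective π ∧
      ∀ a, MonoidAlgebra.mapDomainBialgHom K (imgChar φ).subtype (π a) = φ a := by
  classical
  let i : MonoidAlgebra K (imgChar φ) →ₐc[K] MonoidAlgebra K Γ :=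
    MonoidAlgebra.mapDomainBialgHom K (imgChar φ).subtype
  have hi : Function.Injective i := by
    have := MonoidAlgebra.mapDomain_injective (R := K) (f := (imgChar φ).subtype)
      (Subgroup.subtype_injective _)
    exact this
  have his : ∀ m : imgChar φ, i (MonoidAlgebra.single m (1 : K)) = MonoidAlgebra.single m.1 1 :=
    fun m => MonoidAlgebra.mapDomainBialgHom_single _ _ _
  have hr : ∀ a, φ a ∈ (i : MonoidAlgebra K (imgChar φ) →ₐ[K] MonoidAlgebra K Γ).range := by
    intro a
    rw [← MonoidAlgebra.sum_coeff_single (φ a)]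
    refine sum_mem fun m hm => ?_
    have h1 : MonoidAlgebra.single m ((φ a).coeff m) =
        (φ a).coeff m • (MonoidAlgebra.single m 1 : MonoidAlgebra K Γ) := by
      rw [MonoidAlgebra.smul_single, smul_eq_mul, _root_.mul_one]
    rw [h1]
    refine Subalgebra.smul_mem _ ?_ _
    exact ⟨MonoidAlgebra.single ⟨m, mem_imgChar_of_coeff φ a m (Finsupp.mem_support_iff.1 hm)⟩ 1,
      his _⟩
  let e := AlgEquiv.ofInjective (i : MonoidAlgebra K (imgChar φ) →ₐ[K] MonoidAlgebra K Γ) hi
  let π : A →ₐ[K] MonoidAlgebra K (imgChar φ) :=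
    (e.symm : _ →ₐ[K] _).comp ((φ : A →ₐ[K] MonoidAlgebra K Γ).codRestrict _ hr)
  have hπ : ∀ a, i (π a) = φ a := by
    intro a
    have := congrArg Subtype.val (e.apply_symm_apply
      ((φ : A →ₐ[K] MonoidAlgebra K Γ).codRestrict _ hr a))
    exact this
  have hii : Function.Injective (Algebra.TensorProduct.map
      (i : MonoidAlgebra K (imgChar φ) →ₐ[K] MonoidAlgebra K Γ)
      (i : MonoidAlgebra K (imgChar φ) →ₐ[K] MonoidAlgebra K Γ)) :=
    TensorProduct.map_injective_of_flat_flat
      (i : MonoidAlgebra K (imgChar φ) →ₐ[K] MonoidAlgebra K Γ).toLinearMap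
      (i : MonoidAlgebra K (imgChar φ) →ₐ[K] MonoidAlgebra K Γ).toLinearMap hi hi
  have h1 : (Bialgebra.counitAlgHom K (MonoidAlgebra K (imgChar φ))).comp π =
      Bialgebra.counitAlgHom K A := by
    ext a
    change counit (R := K) (π a) = counit (R := K) a
    rw [← CoalgHomClass.counit_comp_apply i (π a), hπ, CoalgHomClass.counit_comp_apply]
  have h2 : (Algebra.TensorProduct.map π π).comp (Bialgebra.comulAlgHom K A) =
      (Bialgebra.comulAlgHom K (MonoidAlgebra K (imgChar φ))).comp π := by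
    ext a
    apply hii
    have h3 : Algebra.TensorProduct.map (i : MonoidAlgebra K (imgChar φ) →ₐ[K] MonoidAlgebra K Γ)
        (i : MonoidAlgebra K (imgChar φ) →ₐ[K] MonoidAlgebra K Γ) (comul (R := K) (π a)) =
        comul (R := K) (φ a) := by
      rw [← hπ a]
      exact CoalgHomClass.map_comp_comul_apply i (π a)
    have h4 : Algebra.TensorProduct.map (i : MonoidAlgebra K (imgChar φ) →ₐ[K] MonoidAlgebra K Γ)
        (i : MonoidAlgebra K (imgChar φ) →ₐ[K] MonoidAlgebra K Γ)
        (Algebra.TensorProduct.map π π (comul (R := K) a)) = comul (R := K) (φ a) := by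
      rw [← CoalgHomClass.map_comp_comul_apply φ a]
      generalize comul (R := K) a = z
      induction z with
      | zero => simp only [map_zero]
      | add x y hx hy => simp only [map_add, hx, hy]
      | tmul x y =>
        rw [Algebra.TensorProduct.map_tmul, Algebra.TensorProduct.map_tmul,
          TensorProduct.map_tmul]
        exact congrArg₂ _ (hπ x) (hπ y)
    exact h4.trans h3.symm
  refine ⟨BialgHom.ofAlgHom π h1 h2, ?_, hπ⟩
  intro y
  change ∃ a, π a = y
  induction y using MonoidAlgebra.induction_linear with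
  | zero => exact ⟨0, map_zero π⟩
  | add f g hf hg =>
    obtain ⟨a, rfl⟩ := hf
    obtain ⟨b, rfl⟩ := hg
    exact ⟨a + b, map_add π a b⟩
  | single m c =>
    obtain ⟨b, hb⟩ := m.2
    refine ⟨c • b, hi ?_⟩
    rw [hπ, map_smul, hb, MonoidAlgebra.smul_single, smul_eq_mul, _root_.mul_one]
    exact (MonoidAlgebra.mapDomainBialgHom_single (imgChar φ).subtype m c).symm

end image

lemma exists_equiv_fin (H : Subgroup (Multiplicative ℤ)) :
    ∃ n : ℕ, Nonempty (H ≃* Multiplicative (Fin n → ℤ)) := by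
  let f : Additive H →+ ℤ := MonoidHom.toAdditiveLeft H.subtype
  have hf : Function.Injective f.toIntLinearMap := H.subtype_injective
  have h1 : Module.Finite ℤ (Additive H) := Module.Finite.of_injective f.toIntLinearMap hf
  have h2 : Module.IsTorsionFree ℤ (Additive H) :=
    hf.moduleIsTorsionFree _ (fun c x => map_smul f.toIntLinearMap c x)
  have h3 : Module.Free ℤ (Additive H) := inferInstance
  let b := Module.finBasis ℤ (Additive H)
  exact ⟨_, ⟨AddEquiv.toMultiplicativeRight b.equivFun.toAddEquiv⟩⟩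

section alg

variable {K : Type u} [Field K] [IsAlgClosed K] {B : Type u} [CommRing B] [HopfAlgebra K B]

omit [IsAlgClosed K] in
/-- A group without subtori has only trivial cocharacters. -/
theorem cochPt_eq_one_of_hasNoSubtorus (h : Red.HasNoSubtorus K (SpecOver K B))
    (c : B →ₐc[K] K[T;T⁻¹]) (t : Kˣ) : cochPt c t = 1 := by
  let κ : K[T;T⁻¹] ≃ₐc[K] MonoidAlgebra K (Multiplicative ℤ) :=
    AddMonoidAlgebra.toMultiplicativeBialgEquiv K K ℤ
  let φ : B →ₐc[K] MonoidAlgebra K (Multiplicative ℤ) :=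
    (κ : K[T;T⁻¹] →ₐc[K] MonoidAlgebra K (Multiplicative ℤ)).comp c
  obtain ⟨ρ, hρs, hρ⟩ := exists_factor_imgChar φ
  obtain ⟨n, ⟨e⟩⟩ := exists_equiv_fin (imgChar φ)
  let ε : MonoidAlgebra K (imgChar φ) ≃ₐc[K] KZ K n := MonoidAlgebra.domCongrBialgEquiv K K e
  let π : B →ₐc[K] KZ K n := (ε : MonoidAlgebra K (imgChar φ) →ₐc[K] KZ K n).comp ρ
  have hπ : Function.Surjective π := ε.surjective.comp hρs
  have hc : IsClosedImmersion (specMap K (π : B →ₐ[K] KZ K n)).left :=
    (isClosedImmersion_specMap_iff K _).2 hπ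
  have := isMonHom_specMap K π
  have hm : Mono (specMap K (π : B →ₐ[K] KZ K n)) := Books.AlgPtsGrp.mono_of_isClosedImmersion _
  have h1 := h (SpecOver K (KZ K n)) (specMap K (π : B →ₐ[K] KZ K n)) (isTorus_KZ n)
  have h2 := ptsSub_eq_bot_of_isTrivialGrp (specMap K (π : B →ₐ[K] KZ K n)) h1
  rw [ptsSub_eq_range _ π (Iso.refl _) (Category.id_comp _)] at h2
  have h3 : ∀ y : Pt K (MonoidAlgebra K (imgChar φ)), Pt.map ρ y = 1 := by
    intro y
    have h4 : Pt.map π (Pt.map (ε.symm : KZ K n →ₐc[K] MonoidAlgebra K (imgChar φ)) y) = 1 := by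
      rw [← Subgroup.mem_bot, ← h2]
      exact ⟨_, rfl⟩
    rw [← h4]
    apply Pt.ext'
    intro b
    change y (ρ b) = y (ε.symm (ε (ρ b)))
    rw [BialgEquiv.symm_apply_apply]
  let i : MonoidAlgebra K (imgChar φ) →ₐc[K] MonoidAlgebra K (Multiplicative ℤ) :=
    MonoidAlgebra.mapDomainBialgHom K (imgChar φ).subtype
  rw [← h3 (Pt.map i (Pt.map (κ.symm : MonoidAlgebra K (Multiplicative ℤ) →ₐc[K] K[T;T⁻¹])
    (gmPt t)))]
  apply Pt.ext'
  intro b
  change (gmPt t : Pt K K[T;T⁻¹]) (c b) = (gmPt t : Pt K K[T;T⁻¹]) (κ.symm (i (ρ b)))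
  rw [hρ]
  change (gmPt t : Pt K K[T;T⁻¹]) (c b) = (gmPt t : Pt K K[T;T⁻¹]) (κ.symm (κ (c b)))
  rw [BialgEquiv.symm_apply_apply]

omit [IsAlgClosed K] in
lemma hasNoSubtorus_of_iso {U V : Over (Spec (CommRingCat.of K))} [GrpObj U] [GrpObj V]
    (e : U ≅ V) [IsMonHom e.hom] (h : Red.HasNoSubtorus K U) : Red.HasNoSubtorus K V := by
  intro T _ j _ _ hT
  have : IsMonHom e.inv := inferInstance
  exact h T (j ≫ e.inv) hT

/-- Smooth connected closed subgroups without subtori are unipotent. -/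
theorem isUnip_of_hasNoSubtorus {A : Type u} [CommRing A] [HopfAlgebra K A]
    [Algebra.FiniteType K A] {U : Over (Spec (CommRingCat.of K))} [GrpObj U]
    (i : U ⟶ SpecOver K A) [IsMonHom i] [IsClosedImmersion i.left] [Smooth U.hom]
    [ConnectedSpace U.left] (h : Red.HasNoSubtorus K U) : ∀ g ∈ ptsSub i, IsUnip g := by
  obtain ⟨-, hI, e, he, hei⟩ := exists_iso_vanIdeal i
  have hconn := isConn_ptsSub i
  have hd : IsDomain (A ⧸ vanIdeal (ptsSub i : Set (Pt K A))) :=
    (Ideal.Quotient.isDomain_iff_prime _).2 hconn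
  have h1 := hasNoSubtorus_of_iso e h
  have h2 := CentralPt.isUnip_of_forall_coch (cochPt_eq_one_of_hasNoSubtorus h1)
  intro g hg
  rw [ptsSub_eq_range i (Bialgebra.Quotient.mkBialgHom (R := K)
    (vanIdeal (ptsSub i : Set (Pt K A)))) e hei] at hg
  obtain ⟨x, rfl⟩ := hg
  exact isUnip_map _ (h2 x)

end alg

end Groth.Agent.Sga3B.RadOpen
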