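import Groth.Agent.Sga3B.RadOpen.RadSet
import Groth.Agent.Sga3B.BcPts
import Groth.Agent.Books.AlgPts

/-!
# Rational points of a base change and field-valued points
-/

set_option autoImplicit false

universe u

open CategoryTheory MonoidalCategory CartesianMonoidalCategory MonObj GrpObj AlgebraicGeometry Limits

namespace Groth.Agent.Sga3B.RadOpen

variable {S : Scheme.{u}} {K : Type u} [Field K] (p : Spec (CommRingCat.of K) ⟶ S)

/-- `Over.mk p` is the unit of `Over (Spec K)` viewed over `S`. -/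
noncomputable def unitIso :
    (Over.map p).obj (𝟙_ (Over (Spec (CommRingCat.of K)))) ≅ Over.mk p :=
  Over.isoMk (Iso.refl _) (by simp)

/-- Rational points of the base change are field-valued points. -/
noncomputable def ptEquiv (X : Over S) :
    (𝟙_ (Over (Spec (CommRingCat.of K))) ⟶ Red.bc p X) ≃ (Over.mk p ⟶ X) :=
  (BcPts.bcEquiv p _ X).symm.trans ((unitIso p).homFromEquiv)

lemma ptEquiv_left {X : Over S} (x : 𝟙_ (Over (Spec (CommRingCat.of K))) ⟶ Red.bc p X) :
    (ptEquiv p X x).left = x.left ≫ pullback.fst X.hom p := by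
  simp [ptEquiv, BcPts.bcEquiv, unitIso, Adjunction.homEquiv_counit]

lemma gpt_ptEquiv {X : Over S} (x : 𝟙_ (Over (Spec (CommRingCat.of K))) ⟶ Red.bc p X) :
    gpt (ptEquiv p X x) = pullback.fst X.hom p (Books.AlgPts.pt x) := by
  rw [gpt, ptEquiv_left]
  rfl

lemma ptEquiv_comp {X Y : Over S} (x : 𝟙_ (Over (Spec (CommRingCat.of K))) ⟶ Red.bc p X)
    (f : X ⟶ Y) : ptEquiv p Y (x ≫ (Over.pullback p).map f) = ptEquiv p X x ≫ f := by
  simp only [ptEquiv, Equiv.trans_apply, BcPts.bcEquiv_symm_comp]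
  simp

variable (G : Over S) [GrpObj G]

/-- The bijection on points is a group isomorphism. -/
noncomputable def ptMulEquiv :
    (𝟙_ (Over (Spec (CommRingCat.of K))) ⟶ Red.bc p G) ≃* (Over.mk p ⟶ G) where
  __ := ptEquiv p G
  map_mul' x y := by
    simp only [ptEquiv]
    change (unitIso p).inv ≫ (BcPts.bcEquiv p _ G).symm (x * y) =
      ((unitIso p).inv ≫ (BcPts.bcEquiv p _ G).symm x) *
        ((unitIso p).inv ≫ (BcPts.bcEquiv p _ G).symm y)
    rw [← MonObj.comp_mul]
    congr 1
    exact (BcPts.bcMulEquiv p _ G).symm.map_mul x y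

@[simp] lemma ptMulEquiv_apply (x : 𝟙_ (Over (Spec (CommRingCat.of K))) ⟶ Red.bc p G) :
    ptMulEquiv p G x = ptEquiv p G x := rfl

end Groth.Agent.Sga3B.RadOpen
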