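import Groth.Agent.Sga3B.RadOpen.ForallClosed
import Groth.Agent.Sga3B.RadOpen.AltFun

/-!
# The closed subset defined by alternating sums of a function on a group scheme
-/

set_option autoImplicit false

universe u

open CategoryTheory MonoidalCategory CartesianMonoidalCategory MonObj GrpObj AlgebraicGeometry Limits

namespace Groth.Agent.Sga3B.RadOpen

variable {S : Scheme.{u}}

section Eval

variable {K : Type u} [Field K] {a : Spec (CommRingCat.of K) ⟶ S}

/-- Value of a global function at a field-valued point. -/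
noncomputable def evg {X : Over S} (x : Over.mk a ⟶ X) : Γ(X.left, ⊤) →+* K :=
  (Scheme.ΓSpecIso (CommRingCat.of K)).hom.hom.comp (x.left.appTop.hom)

lemma evg_comp {X Y : Over S} (x : Over.mk a ⟶ X) (f : X ⟶ Y) (s : Γ(Y.left, ⊤)) :
    evg (x ≫ f) s = evg x (f.left.appTop s) := by
  simp [evg]

lemma gpt_mem_basicOpen_iff {X : Over S} (x : Over.mk a ⟶ X) (f : Γ(X.left, ⊤)) :
    gpt x ∈ X.left.basicOpen f ↔ evg x f ≠ 0 := by
  have h1 : gpt x ∈ X.left.basicOpen f ↔
      IsLocalRing.closedPoint K ∈ x.left ⁻¹ᵁ X.left.basicOpen f := Iff.rfl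
  rw [h1, Scheme.preimage_basicOpen_top]
  have h2 := basicOpen_eq_of_affine' (R := CommRingCat.of K) (x.left.appTop f)
  change IsLocalRing.closedPoint K ∈ (Spec (CommRingCat.of K)).basicOpen (x.left.appTop f) ↔ _
  rw [h2]
  change ¬ (_ ∈ IsLocalRing.maximalIdeal K) ↔ _
  rw [IsLocalRing.maximalIdeal_eq_bot, Ideal.mem_bot]
  rfl

end Eval

section Powers

variable (G : Over S)

/-- `G × ⋯ × G` (`n + 1` factors). -/
noncomputable def Pw : ℕ → Over S
  | 0 => G
  | n + 1 => G ⊗ Pw n

variable {G}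

/-- The first `n` coordinates of a point of `Pw G n`. -/
noncomputable def lst {T : Over S} : (n : ℕ) → (T ⟶ Pw G n) → List (T ⟶ G)
  | 0, _ => []
  | n + 1, p => (p ≫ fst G (Pw G n)) :: lst n (p ≫ snd G (Pw G n))

/-- The last coordinate of a point of `Pw G n`. -/
noncomputable def bas {T : Over S} : (n : ℕ) → (T ⟶ Pw G n) → (T ⟶ G)
  | 0, p => p
  | n + 1, p => bas n (p ≫ snd G (Pw G n))

lemma lst_length {T : Over S} (n : ℕ) (p : T ⟶ Pw G n) : (lst n p).length = n := by
  induction n with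
  | zero => rfl
  | succ n ih => simp [lst, ih]

lemma lst_comp {T T' : Over S} (t : T' ⟶ T) (n : ℕ) (p : T ⟶ Pw G n) :
    lst n (t ≫ p) = (lst n p).map (t ≫ ·) := by
  induction n with
  | zero => rfl
  | succ n ih =>
    change ((t ≫ p) ≫ fst _ _) :: lst n ((t ≫ p) ≫ snd _ _) =
      List.map (t ≫ ·) ((p ≫ fst _ _) :: lst n (p ≫ snd _ _))
    rw [Category.assoc, Category.assoc, ih, List.map_cons]

lemma bas_comp {T T' : Over S} (t : T' ⟶ T) (n : ℕ) (p : T ⟶ Pw G n) :
    bas n (t ≫ p) = t ≫ bas n p := by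
  induction n with
  | zero => rfl
  | succ n ih =>
    change bas n ((t ≫ p) ≫ snd _ _) = t ≫ bas n (p ≫ snd _ _)
    rw [Category.assoc, ih]

lemma exists_lst {T : Over S} (n : ℕ) (ys : List (T ⟶ G)) (hys : ys.length = n) (x : T ⟶ G) :
    ∃ p : T ⟶ Pw G n, lst n p = ys ∧ bas n p = x := by
  induction n generalizing ys with
  | zero =>
    refine ⟨x, ?_, rfl⟩
    rw [List.length_eq_zero_iff.mp hys]
    rfl
  | succ n ih =>
    obtain ⟨y, ys, rfl⟩ : ∃ y ys', ys = y :: ys' := by
      cases ys with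
      | nil => simp at hys
      | cons y ys => exact ⟨y, ys, rfl⟩
    obtain ⟨p, hp1, hp2⟩ := ih ys (by simpa using hys)
    refine ⟨lift y p, ?_, ?_⟩
    · change (lift y p ≫ fst _ _) :: lst n (lift y p ≫ snd _ _) = _
      rw [lift_fst, lift_snd, hp1]
    · change bas n (lift y p ≫ snd _ _) = _
      rw [lift_snd, hp2]

lemma smooth_Pw [Smooth G.hom] (n : ℕ) : Smooth (Pw G n).hom := by
  induction n with
  | zero => assumption
  | succ n ih =>
    change Smooth (G ⊗ Pw G n).hom
    rw [Over.tensorObj_hom]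
    infer_instance

end Powers

section NSet

variable (G : Over S) [GrpObj G]

/-- The universal alternating sum of `f`. -/
noncomputable def altFn (n : ℕ) (f : Γ(G.left, ⊤)) : Γ((G ⊗ Pw G n).left, ⊤) :=
  alt (fst G (Pw G n)) (lst n (snd G (Pw G n))) (fun h : G ⊗ Pw G n ⟶ G => h.left.appTop f)
    (bas n (snd G (Pw G n)))

/-- Precomposition as a homomorphism of groups of points. -/
noncomputable def preHom {T T' : Over S} (t : T' ⟶ T) : (T ⟶ G) →* (T' ⟶ G) where
  toFun x := t ≫ x
  map_one' := by rw [MonObj.comp_one]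
  map_mul' x y := by rw [MonObj.comp_mul]

variable {G}

lemma evg_altFn {K : Type u} [Field K] {a : Spec (CommRingCat.of K) ⟶ S} (n : ℕ)
    (f : Γ(G.left, ⊤)) (t : Over.mk a ⟶ G ⊗ Pw G n) :
    evg t (altFn G n f) = alt (t ≫ fst G (Pw G n)) (lst n (t ≫ snd G (Pw G n)))
      (fun h : Over.mk a ⟶ G => evg h f) (bas n (t ≫ snd G (Pw G n))) := by
  have := alt_natural (evg t).toAddMonoidHom (preHom G t) (fst G (Pw G n))
    (lst n (snd G (Pw G n))) (fun h : G ⊗ Pw G n ⟶ G => h.left.appTop f)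
    (fun h : Over.mk a ⟶ G => evg h f) (fun x => (evg_comp t x f).symm) (bas n (snd G (Pw G n)))
  rw [lst_comp, bas_comp]
  exact this

variable (G) in
/-- The closed subset of `G` of elements with vanishing alternating sums of length `n`. -/
noncomputable def NSet (n : ℕ) (f : Γ(G.left, ⊤)) : Set G.left :=
  allSet (X := G) (P := Pw G n) {z | z ∉ (G ⊗ Pw G n).left.basicOpen (altFn G n f)}

lemma isClosed_compl_basicOpen {X : Scheme.{u}} (s : Γ(X, ⊤)) :
    IsClosed {z : X | z ∉ X.basicOpen s} :=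
  (X.basicOpen s).isOpen.isClosed_compl

lemma isClosed_NSet [Smooth G.hom] (n : ℕ) (f : Γ(G.left, ⊤)) : IsClosed (NSet G n f) := by
  have := smooth_Pw (G := G) n
  exact isClosed_allSet (isClosed_compl_basicOpen _)

theorem gpt_mem_NSet_iff [Smooth G.hom] (n : ℕ) (f : Γ(G.left, ⊤)) {K : Type u} [Field K]
    [IsAlgClosed K] {a : Spec (CommRingCat.of K) ⟶ S} (g : Over.mk a ⟶ G) :
    gpt g ∈ NSet G n f ↔ ∀ ys : List (Over.mk a ⟶ G), ys.length = n →
      alt g ys (fun h : Over.mk a ⟶ G => evg h f) = 0 := by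
  have := smooth_Pw (G := G) n
  rw [NSet, gpt_mem_allSet_iff (isClosed_compl_basicOpen _)]
  have key : ∀ p : Over.mk a ⟶ Pw G n,
      gpt (lift g p) ∈ {z | z ∉ (G ⊗ Pw G n).left.basicOpen (altFn G n f)} ↔
        alt g (lst n p) (fun h : Over.mk a ⟶ G => evg h f) (bas n p) = 0 := by
    intro p
    rw [Set.mem_ofPred_eq, gpt_mem_basicOpen_iff, not_not, evg_altFn, lift_fst, lift_snd]
  simp only [key]
  constructor
  · intro h ys hys
    funext x
    obtain ⟨p, rfl, rfl⟩ := exists_lst n ys hys x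
    exact h p
  · intro h p
    rw [h _ (lst_length n p)]
    rfl

end NSet

end Groth.Agent.Sga3B.RadOpen
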