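import Groth.Agent.Sga3B.RadOpen.Coef

/-!
# The closed subset of normal unipotent elements of a smooth affine group scheme over an affine base
-/

set_option autoImplicit false

universe u

open CategoryTheory MonoidalCategory CartesianMonoidalCategory MonObj GrpObj AlgebraicGeometry Limits

namespace Groth.Agent.Sga3B.RadOpen

variable {S : Scheme.{u}}

/-- A field-valued point of a group scheme acts unipotently on a function by right translation. -/
def UnipAt {K : Type u} [Field K] {p : Spec (CommRingCat.of K) ⟶ S} {G : Over S} [GrpObj G]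
    (g : Over.mk p ⟶ G) (f : Γ(G.left, ⊤)) : Prop :=
  ∃ m : ℕ, ((rt (Over.mk p ⟶ G) K g - 1) ^ m) (fun h => evg h f) = 0

/-- Properties of a closed subset `N` of `G` describing the normal unipotent elements. -/
structure IsRadSet (G : Over S) [GrpObj G] (N : Set G.left) (fs : Finset Γ(G.left, ⊤)) : Prop where
  isClosed : IsClosed N
  gen : (G.hom.appTop.hom.range : Subring Γ(G.left, ⊤)) ⊔ Subring.closure fs = ⊤
  exists_subgroup : ∀ {K : Type u} [Field K] [IsAlgClosed K] (p : Spec (CommRingCat.of K) ⟶ S),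
    ∃ NK : Subgroup (Over.mk p ⟶ G), NK.Normal ∧ (∀ g, g ∈ NK ↔ gpt g ∈ N) ∧
      (∀ g ∈ NK, ∀ f ∈ fs, UnipAt g f) ∧
      (∀ U : Subgroup (Over.mk p ⟶ G), U.Normal → (∀ u ∈ U, ∀ f ∈ fs, UnipAt u f) → U ≤ NK)

theorem exists_radSet [IsAffine S] (G : Over S) [GrpObj G] [IsAffineHom G.hom] [Smooth G.hom] :
    ∃ (N : Set G.left) (fs : Finset Γ(G.left, ⊤)), IsRadSet G N fs := by
  classical
  obtain ⟨fs, hfs⟩ := exists_generators G
  choose n a b hab using fun f : Γ(G.left, ⊤) => exists_coef (G := G) f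
  let κ := Σ f : fs, Fin (n f.1)
  let m := Fintype.card κ + 1
  refine ⟨⋂ f : fs, NSet G m f.1, fs, isClosed_iInter fun f => isClosed_NSet m f.1, hfs, ?_⟩
  intro K _ _ p
  let φ : fs → (Over.mk p ⟶ G) → K := fun f h => evg h f.1
  let a' : κ → (Over.mk p ⟶ G) → K := fun k h => evg h (a k.1.1 k.2)
  have ha : ∀ x j, rt (Over.mk p ⟶ G) K x (φ j) ∈ Submodule.span K (Set.range a') := by
    intro x j
    have h1 : rt (Over.mk p ⟶ G) K x (φ j) = ∑ k : Fin (n j.1), evg x (b j.1 k) • a' ⟨j, k⟩ := by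
      funext y
      rw [rt_apply, Finset.sum_apply]
      change evg (y * x) j.1 = _
      rw [hab]
      refine Finset.sum_congr rfl fun k _ => ?_
      rw [Pi.smul_apply, smul_eq_mul, _root_.mul_comm]
    rw [h1]
    exact Submodule.sum_mem _ fun k _ => Submodule.smul_mem _ _ (Submodule.subset_span ⟨⟨j, k⟩, rfl⟩)
  obtain ⟨N, hN1, hN2, hN3, hN4⟩ := exists_normal_subgroup φ a' ha m (Nat.le_succ _)
    (Nat.succ_pos _)
  refine ⟨N, hN1, fun g => ?_, fun g hg f hf => ⟨m, hN3 g hg ⟨f, hf⟩⟩, fun U hU hu => ?_⟩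
  · rw [hN2, Set.mem_iInter]
    simp only [gpt_mem_NSet_iff]
    constructor
    · intro h f ys hys
      exact h ys hys f
    · intro h ys hys f
      exact h f ys hys
  · exact hN4 U hU fun u hu' j => hu u hu' j.1 j.2

end Groth.Agent.Sga3B.RadOpen
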